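import Groth.Agent.QReg6.Basic
import Mathlib.RingTheory.Regular.RegularSequence
import Mathlib.Algebra.MvPolynomial.Equiv

/-! Regular sequences are quasi-regular. -/

universe u

open MvPolynomial

namespace Groth.Agent.QReg6

variable {R : Type u} [CommRing R] {c : ℕ}

theorem exists_homogeneous_eval (f : Fin c → R) : ∀ {n : ℕ} {x : R},
    x ∈ Ideal.span (Set.range f) ^ n → ∃ P : MvPolynomial (Fin c) R, P.IsHomogeneous n ∧ eval f P = x := by
  intro n
  induction n with
  | zero => exact fun {x} _ => ⟨C x, isHomogeneous_C _ _, eval_C _⟩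
  | succ n ih =>
    intro x hx
    rw [pow_succ] at hx
    refine Submodule.mul_induction_on hx (fun a ha b hb => ?_) (fun a b ha hb => ?_)
    · obtain ⟨P, hP, rfl⟩ := ih ha
      obtain ⟨b', rfl⟩ := Ideal.mem_span_range_iff_exists_fun.mp hb
      exact ⟨P * ∑ j, C (b' j) * X j,
        hP.mul (IsHomogeneous.sum _ _ _ fun j _ => isHomogeneous_C_mul_X _ _), by simp⟩
    · obtain ⟨P, hP, rfl⟩ := ha
      obtain ⟨Q, hQ, rfl⟩ := hb
      exact ⟨P + Q, hP.add hQ, map_add _ _ _⟩

/-- Elements of `I ^ (n + 1)` are values of degree `n` forms with coefficients in `I`. -/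
theorem exists_homogeneous_eval_coeff_mem (f : Fin c → R) {n : ℕ} {x : R}
    (hx : x ∈ Ideal.span (Set.range f) ^ (n + 1)) :
    ∃ P : MvPolynomial (Fin c) R, P.IsHomogeneous n ∧ eval f P = x ∧
      ∀ d, P.coeff d ∈ Ideal.span (Set.range f) := by
  rw [pow_succ] at hx
  refine Submodule.mul_induction_on hx (fun a ha b hb => ?_) (fun a b ha hb => ?_)
  · obtain ⟨P, hP, rfl⟩ := exists_homogeneous_eval f ha
    exact ⟨C b * P, hP.C_mul b, by simp [mul_comm], fun d => by
      rw [coeff_C_mul]; exact Ideal.mul_mem_right _ _ hb⟩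
  · obtain ⟨P, hP, rfl, hPc⟩ := ha
    obtain ⟨Q, hQ, rfl, hQc⟩ := hb
    exact ⟨P + Q, hP.add hQ, map_add _ _ _, fun d => by
      rw [coeff_add]; exact Submodule.add_mem _ (hPc d) (hQc d)⟩

theorem eval_mem_pow (f : Fin c → R) {n : ℕ} {P : MvPolynomial (Fin c) R} (hP : P.IsHomogeneous n) :
    eval f P ∈ Ideal.span (Set.range f) ^ n := by
  classical
  rw [eval_eq]
  refine Submodule.sum_mem _ fun d hd => Ideal.mul_mem_left _ _ ?_
  have hd' : d.sum (fun _ k => k) = n := by
    rw [← hP (mem_support_iff.mp hd)]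
    simp [Finsupp.weight_apply]
  rw [← hd', Finsupp.sum, ← Finset.prod_pow_eq_pow_sum]
  exact Ideal.prod_mem_prod fun i _ => Ideal.pow_mem_pow
    (Ideal.subset_span (Set.mem_range_self i)) _

/-- It suffices to test quasi-regularity on vanishing forms. -/
theorem isQuasiRegular_of_eval_eq_zero {f : Fin c → R}
    (h : ∀ (n : ℕ) (P : MvPolynomial (Fin c) R), P.IsHomogeneous n → eval f P = 0 →
      ∀ d, P.coeff d ∈ Ideal.span (Set.range f)) : CAlgX.IsQuasiRegular f := by
  intro n P hP hmem d
  obtain ⟨Q, hQ, hQe, hQc⟩ := exists_homogeneous_eval_coeff_mem f hmem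
  have := h n (P - Q) (hP.sub hQ) (by rw [map_sub, hQe, sub_self]) d
  rw [coeff_sub] at this
  simpa using Submodule.add_mem _ this (hQc d)

/-- An element regular modulo a quasi-regular ideal is regular modulo its powers. -/
theorem mem_pow_of_mul_mem_pow {g : Fin c → R} (hg : CAlgX.IsQuasiRegular g) (x : R)
    (hx : ∀ a, a * x ∈ Ideal.span (Set.range g) → a ∈ Ideal.span (Set.range g)) :
    ∀ (n : ℕ) (a : R), a * x ∈ Ideal.span (Set.range g) ^ n → a ∈ Ideal.span (Set.range g) ^ n := by
  intro n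
  induction n with
  | zero => intro a _; simp
  | succ n ih =>
    intro a ha
    obtain ⟨P, hP, rfl⟩ := exists_homogeneous_eval g (ih a (Ideal.pow_le_pow_right n.le_succ ha))
    have hc : ∀ d, P.coeff d ∈ Ideal.span (Set.range g) := fun d => hx _ <| by
      have := hg n (C x * P) (hP.C_mul x) (by rwa [map_mul, eval_C, mul_comm]) d
      rwa [coeff_C_mul, mul_comm] at this
    classical
    rw [eval_eq, pow_succ']
    refine Submodule.sum_mem _ fun d hd => Ideal.mul_mem_mul (hc d) ?_
    have hd' : d.sum (fun _ k => k) = n := by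
      rw [← hP (mem_support_iff.mp hd)]
      simp [Finsupp.weight_apply]
    rw [← hd', Finsupp.sum, ← Finset.prod_pow_eq_pow_sum]
    exact Ideal.prod_mem_prod fun i _ => Ideal.pow_mem_pow
      (Ideal.subset_span (Set.mem_range_self i)) _

/-- Each entry is regular modulo the later ones. -/
def IsRevRegular : ∀ {c : ℕ}, (Fin c → R) → Prop
  | 0, _ => True
  | _ + 1, f => (∀ a, a * f 0 ∈ Ideal.span (Set.range (Fin.tail f)) →
      a ∈ Ideal.span (Set.range (Fin.tail f))) ∧ IsRevRegular (Fin.tail f)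

theorem eval_decomp (f : Fin (c + 1) → R) (P : MvPolynomial (Fin (c + 1)) R) :
    ∃ (P0 : MvPolynomial (Fin c) R) (P1 : MvPolynomial (Fin (c + 1)) R),
      P0 = (finSuccEquiv R c P).coeff 0 ∧ P = rename Fin.succ P0 + X 0 * P1 := by
  have hC : ∀ q : MvPolynomial (Fin c) R, finSuccEquiv R c (rename Fin.succ q) = Polynomial.C q := by
    intro q
    induction q using MvPolynomial.induction_on with
    | C a => simp [finSuccEquiv_apply]
    | add p q hp hq => simp [map_add, hp, hq]
    | mul_X p i hp => simp [map_mul, hp, finSuccEquiv_X_succ]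
  refine ⟨_, (finSuccEquiv R c).symm (finSuccEquiv R c P).divX, rfl, (finSuccEquiv R c).injective ?_⟩
  rw [map_add, map_mul, hC, finSuccEquiv_X_zero, AlgEquiv.apply_symm_apply]
  exact (Polynomial.X_mul_divX_add _).symm.trans (add_comm _ _)

theorem eval_eq_zero_coeff_mem : ∀ {c : ℕ} (f : Fin c → R), IsRevRegular f →
    ∀ (n : ℕ) (P : MvPolynomial (Fin c) R), P.IsHomogeneous n → eval f P = 0 →
      ∀ d, P.coeff d ∈ Ideal.span (Set.range f) := by
  intro c
  induction c with
  | zero =>
    intro f _ n P _ h0 d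
    obtain rfl : d = 0 := Subsingleton.elim _ _
    have hP : P = C (P.coeff 0) := MvPolynomial.ext _ _ fun e => by
      obtain rfl : e = 0 := Subsingleton.elim _ _
      simp
    rw [hP, eval_C] at h0
    simp [h0]
  | succ c ihc =>
    intro f hf
    have hg := isQuasiRegular_of_eval_eq_zero (ihc (Fin.tail f) hf.2)
    set K := Ideal.span (Set.range (Fin.tail f))
    set I := Ideal.span (Set.range f)
    have hKI : K ≤ I := Ideal.span_mono (Set.range_comp_subset_range Fin.succ f)
    intro n
    induction n with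
    | zero =>
      intro P hP h0 d
      rw [totalDegree_eq_zero_iff_eq_C.mp (Nat.le_zero.mp hP.totalDegree_le), eval_C] at h0
      by_cases hd : d = 0
      · rw [hd, h0]; exact zero_mem _
      · rw [hP.coeff_eq_zero (by simpa [Finsupp.degree_eq_zero_iff] using hd)]
        exact zero_mem _
    | succ n ihn =>
      intro P hP h0 d
      obtain ⟨P0, P1, hP0, hdec⟩ := eval_decomp f P
      have hP0h : P0.IsHomogeneous (n + 1) := by
        rw [hP0]; exact hP.finSuccEquiv_coeff_isHomogeneous 0 (n + 1) (by simp)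
      have hP1h : P1.IsHomogeneous n := by
        intro e he
        have hmul : (X 0 * P1).IsHomogeneous (n + 1) := by
          have : X 0 * P1 = P - rename Fin.succ P0 := by rw [hdec]; ring
          rw [this]
          exact hP.sub hP0h.rename_isHomogeneous
        have := @hmul (Finsupp.single 0 1 + e) (by rwa [coeff_X_mul])
        simp [Finsupp.weight_apply, Finsupp.sum_add_index'] at this ⊢
        omega
      have h0' : eval (Fin.tail f) P0 + f 0 * eval f P1 = 0 := by
        rw [← h0, hdec, map_add, map_mul, eval_X, eval_rename]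
        rfl
      have hP1K : eval f P1 ∈ K ^ (n + 1) := by
        refine mem_pow_of_mul_mem_pow hg (f 0) hf.1 (n + 1) _ ?_
        rw [mul_comm, eq_neg_of_add_eq_zero_right h0']
        exact (K ^ (n + 1)).neg_mem (eval_mem_pow _ hP0h)
      obtain ⟨H, hH, hHe⟩ := exists_homogeneous_eval (Fin.tail f) hP1K
      -- the coefficients of `P1` lie in `I`
      have hP1c : ∀ e, P1.coeff e ∈ I := by
        intro e
        obtain ⟨Q, hQ, hQe, hQc⟩ :=
          exists_homogeneous_eval_coeff_mem f (Ideal.pow_right_mono hKI _ hP1K)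
        have := ihn (P1 - Q) (hP1h.sub hQ) (by rw [map_sub, hQe, sub_self]) e
        rw [coeff_sub] at this
        simpa using I.add_mem this (hQc e)
      have hP0c : ∀ e, P0.coeff e ∈ I := by
        intro e
        have := ihc (Fin.tail f) hf.2 (n + 1) (P0 + C (f 0) * H) (hP0h.add (hH.C_mul _))
          (by rw [map_add, map_mul, eval_C, hHe, h0']) e
        rw [coeff_add, coeff_C_mul] at this
        simpa using I.sub_mem (hKI this)
          (I.mul_mem_right (H.coeff e) (Ideal.subset_span ⟨0, rfl⟩ : f 0 ∈ I))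
      have hz : map (Ideal.Quotient.mk I) P = 0 := by
        have z0 : map (Ideal.Quotient.mk I) P0 = 0 := MvPolynomial.ext _ _ fun e => by
          rw [coeff_map, coeff_zero]; exact Ideal.Quotient.eq_zero_iff_mem.mpr (hP0c e)
        have z1 : map (Ideal.Quotient.mk I) P1 = 0 := MvPolynomial.ext _ _ fun e => by
          rw [coeff_map, coeff_zero]; exact Ideal.Quotient.eq_zero_iff_mem.mpr (hP1c e)
        rw [hdec, map_add, map_mul, map_rename, z0, z1, map_zero, mul_zero, add_zero]
      rw [← Ideal.Quotient.eq_zero_iff_mem, ← coeff_map, hz, coeff_zero]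

theorem isRevRegular_of : ∀ {c : ℕ} (f : Fin c → R),
    (∀ (k : Fin c) (a : R), a * f k ∈ Ideal.span (f '' Set.Ioi k) → a ∈ Ideal.span (f '' Set.Ioi k)) →
    IsRevRegular f := by
  intro c
  induction c with
  | zero => exact fun _ _ => trivial
  | succ c ih =>
    intro f h
    refine ⟨?_, ih _ fun k => ?_⟩
    · have : f '' Set.Ioi 0 = Set.range (Fin.tail f) := by
        ext x
        constructor
        · rintro ⟨j, hj, rfl⟩
          exact ⟨j.pred (Fin.pos_iff_ne_zero.mp hj), by simp [Fin.tail]⟩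
        · rintro ⟨j, rfl⟩
          exact ⟨j.succ, Fin.succ_pos j, rfl⟩
      simpa [this] using h 0
    · have : f '' Set.Ioi k.succ = Fin.tail f '' Set.Ioi k := by
        ext x
        constructor
        · rintro ⟨j, hj, rfl⟩
          have hj0 : j ≠ 0 := Fin.pos_iff_ne_zero.mp ((Fin.succ_pos k).trans hj)
          refine ⟨j.pred hj0, ?_, by simp [Fin.tail]⟩
          rw [Set.mem_Ioi, ← Fin.succ_lt_succ_iff, Fin.succ_pred]
          exact hj
        · rintro ⟨j, hj, rfl⟩
          exact ⟨j.succ, Fin.succ_lt_succ_iff.mpr hj, rfl⟩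
      simpa [this, Fin.tail] using h k.succ

theorem isQuasiRegular_of_regular {f : Fin c → R}
    (h : ∀ (k : Fin c) (a : R), a * f k ∈ Ideal.span (f '' Set.Iio k) →
      a ∈ Ideal.span (f '' Set.Iio k)) : CAlgX.IsQuasiRegular f := by
  refine isQuasiRegular_of_span_eq (f := f ∘ Fin.rev)
    (isQuasiRegular_of_eval_eq_zero (eval_eq_zero_coeff_mem _ (isRevRegular_of _ fun k => ?_))) ?_
  · have : (f ∘ Fin.rev) '' Set.Ioi k = f '' Set.Iio (Fin.rev k) := by
      ext x
      constructor
      · rintro ⟨j, hj, rfl⟩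
        exact ⟨Fin.rev j, Fin.rev_lt_rev.mpr hj, rfl⟩
      · rintro ⟨j, hj, rfl⟩
        exact ⟨Fin.rev j, by simpa [Fin.lt_rev_iff] using hj, by simp⟩
    rw [this]
    exact h (Fin.rev k)
  · rw [Fin.rev_surjective.range_comp]

/-- A weakly regular sequence of `R ⧸ J` gives a quasi-regular sequence in that ring. -/
theorem isQuasiRegular_quotient {J : Ideal R} {f : Fin c → R}
    (hf : RingTheory.Sequence.IsWeaklyRegular (R ⧸ J) (List.ofFn f)) :
    CAlgX.IsQuasiRegular (fun i => Ideal.Quotient.mk J (f i)) := by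
  refine isQuasiRegular_of_regular fun k a ha => ?_
  rw [RingTheory.Sequence.isWeaklyRegular_iff_Fin] at hf
  have hk := hf ⟨k, by simp⟩
  have e1 : (Ideal.ofList ((List.ofFn f).take k) : Ideal R) = Ideal.span (f '' Set.Iio k) := by
    rw [Ideal.ofList]
    congr 1
    ext x
    constructor
    · intro hx
      obtain ⟨i, hi, rfl⟩ := List.mem_take_iff_getElem.mp hx
      rw [List.length_ofFn] at hi
      exact ⟨⟨i, by omega⟩, Fin.lt_def.mpr (lt_min_iff.mp hi).1, (List.getElem_ofFn _).symm⟩
    · rintro ⟨i, hi, rfl⟩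
      exact List.mem_take_iff_getElem.mpr ⟨i, by rw [List.length_ofFn]; exact lt_min hi i.2,
        List.getElem_ofFn _⟩
  have e2 : Ideal.span ((fun i => Ideal.Quotient.mk J (f i)) '' Set.Iio k) =
      (Ideal.span (f '' Set.Iio k)).map (Ideal.Quotient.mk J) := by
    rw [Ideal.map_span, Set.image_image]
  rw [e2] at ha ⊢
  set K := Ideal.span (f '' Set.Iio k)
  have e3 : ∀ z : R ⧸ J, z ∈ (K • ⊤ : Submodule R (R ⧸ J)) ↔ z ∈ K.map (Ideal.Quotient.mk J) := by
    intro z
    rw [Ideal.smul_top_eq_map, Submodule.restrictScalars_mem, Ideal.Quotient.algebraMap_eq]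
  simp only [List.getElem_ofFn, Fin.getElem_fin, e1,
    isSMulRegular_quotient_iff_mem_of_smul_mem] at hk
  refine (e3 a).mp (hk a ((e3 _).mpr ?_))
  have hsm : f k • a = a * Ideal.Quotient.mk J (f k) := by
    rw [Algebra.smul_def, mul_comm]; rfl
  rw [hsm]
  exact ha

end Groth.Agent.QReg6

namespace Groth.Agent.QReg6

open MvPolynomial

variable {R : Type u} [CommRing R] {c : ℕ} {J : Ideal R} {f : Fin c → R}

theorem mem_sup_inf_of_mem {A B C : Ideal R} (hAC : A ≤ C) {x : R} (hx : x ∈ C) (h : x ∈ A ⊔ B) :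
    x ∈ A ⊔ C ⊓ B := by
  have : x ∈ C ⊓ (A ⊔ B) := ⟨hx, h⟩
  rwa [inf_comm, sup_inf_assoc_of_le _ hAC, inf_comm] at this

theorem inf_pow_le_step (hf : RingTheory.Sequence.IsWeaklyRegular (R ⧸ J) (List.ofFn f)) (n : ℕ) :
    J ⊓ Ideal.span (Set.range f) ^ n ≤
      J * Ideal.span (Set.range f) ^ n ⊔ J ⊓ Ideal.span (Set.range f) ^ (n + 1) := by
  intro x hx
  obtain ⟨hxJ, hx⟩ := Submodule.mem_inf.mp hx
  obtain ⟨P, hP, rfl⟩ := exists_homogeneous_eval f hx
  set I := Ideal.span (Set.range f)
  have h0 : eval (fun i => Ideal.Quotient.mk J (f i)) (map (Ideal.Quotient.mk J) P) = 0 := by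
    rw [eval_map, show (fun i => Ideal.Quotient.mk J (f i)) = Ideal.Quotient.mk J ∘ f from rfl,
      ← eval₂_comp]
    exact Ideal.Quotient.eq_zero_iff_mem.mpr hxJ
  have hc : ∀ d, P.coeff d ∈ J ⊔ I := by
    intro d
    have h := isQuasiRegular_quotient hf n _ (hP.map (Ideal.Quotient.mk J))
      (by rw [h0]; exact Submodule.zero_mem _) d
    rw [coeff_map, show Ideal.span (Set.range fun i => Ideal.Quotient.mk J (f i)) =
      I.map (Ideal.Quotient.mk J) by rw [Ideal.map_span, ← Set.range_comp]; rfl,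
      ← Ideal.mem_comap, Ideal.comap_map_of_surjective' _ Ideal.Quotient.mk_surjective,
      Ideal.mk_ker, sup_comm] at h
    exact h
  have hmem : eval f P ∈ (J ⊔ I) * I ^ n := by
    classical
    rw [eval_eq]
    refine Submodule.sum_mem _ fun d hd => Ideal.mul_mem_mul (hc d) ?_
    have hd' : d.sum (fun _ k => k) = n := by
      rw [← hP (mem_support_iff.mp hd)]
      simp [Finsupp.weight_apply]
    rw [← hd', Finsupp.sum, ← Finset.prod_pow_eq_pow_sum]
    exact Ideal.prod_mem_prod fun i _ => Ideal.pow_mem_pow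
      (Ideal.subset_span (Set.mem_range_self i)) _
  have hsplit : (J ⊔ I) * I ^ n = J * I ^ n ⊔ I ^ (n + 1) := by
    rw [Ideal.sup_mul, pow_succ']
  rw [hsplit] at hmem
  exact mem_sup_inf_of_mem (Ideal.mul_le_inf.trans inf_le_left) hxJ hmem

theorem inf_pow_eq_sup (hf : RingTheory.Sequence.IsWeaklyRegular (R ⧸ J) (List.ofFn f)) {n N : ℕ}
    (hnN : n ≤ N) :
    J ⊓ Ideal.span (Set.range f) ^ n =
      J * Ideal.span (Set.range f) ^ n ⊔ J ⊓ Ideal.span (Set.range f) ^ N := by
  refine le_antisymm ?_ (sup_le Ideal.mul_le_inf (inf_le_inf_left _ (Ideal.pow_le_pow_right hnN)))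
  induction N, hnN using Nat.le_induction with
  | base => exact le_sup_right
  | succ N hN ih =>
    refine ih.trans (sup_le le_sup_left ((inf_pow_le_step hf N).trans (sup_le ?_ le_sup_right)))
    exact (mul_le_mul_right (Ideal.pow_le_pow_right hN) J).trans le_sup_left

theorem inf_pow_eq_mul [IsNoetherianRing R]
    (hf : RingTheory.Sequence.IsWeaklyRegular (R ⧸ J) (List.ofFn f)) (n : ℕ) :
    J ⊓ Ideal.span (Set.range f) ^ n = J * Ideal.span (Set.range f) ^ n := by
  set I := Ideal.span (Set.range f)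
  obtain ⟨k, hk⟩ := I.exists_pow_inf_eq_pow_smul (J : Submodule R R)
  refine le_antisymm ((inf_pow_eq_sup hf (Nat.le_add_right n k)).le.trans (sup_le le_rfl ?_))
    Ideal.mul_le_inf
  have h := hk (n + k) (Nat.le_add_left _ _)
  simp only [Nat.add_sub_cancel, smul_eq_mul, Ideal.mul_top] at h
  rw [inf_comm, h, mul_comm]
  exact mul_le_mul_left inf_le_right _

end Groth.Agent.QReg6
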