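import Groth.Prelude.Def_CAlgX
import Mathlib.RingTheory.MvPolynomial.Homogeneous
import Mathlib.RingTheory.Ideal.Cotangent
import Mathlib.LinearAlgebra.Matrix.SemiringInverse
import Mathlib.RingTheory.Nakayama

/-! Changing generators of a quasi-regular sequence. -/

universe u

open MvPolynomial Matrix

namespace Groth.Agent.QReg6

variable {R : Type u} [CommRing R] {c : ℕ}

/-- Linear substitution `X i ↦ ∑ j, U i j X j`. -/
noncomputable def subst (U : Matrix (Fin c) (Fin c) R) :
    MvPolynomial (Fin c) R →ₐ[R] MvPolynomial (Fin c) R :=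
  aeval fun i => ∑ j, C (U i j) * X j

theorem eval_subst (U : Matrix (Fin c) (Fin c) R) (f : Fin c → R) (P : MvPolynomial (Fin c) R) :
    eval f (subst U P) = eval (U *ᵥ f) P := by
  have : (aeval f : MvPolynomial (Fin c) R →ₐ[R] R).comp (subst U) = aeval (U *ᵥ f) := by
    refine algHom_ext fun i => ?_
    simp [subst, mulVec, dotProduct]
  simpa [← aeval_eq_eval] using DFunLike.congr_fun this P

theorem isHomogeneous_subst (U : Matrix (Fin c) (Fin c) R) {n : ℕ} {P : MvPolynomial (Fin c) R}
    (hP : P.IsHomogeneous n) : (subst U P).IsHomogeneous n := by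
  have h := hP.aeval (fun i => ∑ j, C (U i j) * X j) (n := 1)
    (fun i => IsHomogeneous.sum _ _ _ fun j _ => isHomogeneous_C_mul_X _ _)
  simpa [subst] using h

theorem subst_comp (U V : Matrix (Fin c) (Fin c) R) (P : MvPolynomial (Fin c) R) :
    subst V (subst U P) = subst (U * V) P := by
  have : (subst V).comp (subst U) = subst (U * V) := by
    refine algHom_ext fun i => ?_
    simp only [subst, AlgHom.coe_comp, Function.comp_apply, aeval_X, map_sum, map_mul, aeval_C,
      MvPolynomial.algebraMap_eq, Matrix.mul_apply, Finset.sum_mul, Finset.mul_sum]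
    rw [Finset.sum_comm]
    exact Finset.sum_congr rfl fun j _ => Finset.sum_congr rfl fun k _ => by ring
  exact DFunLike.congr_fun this P

theorem subst_one (P : MvPolynomial (Fin c) R) : subst (1 : Matrix (Fin c) (Fin c) R) P = P := by
  have : subst (1 : Matrix (Fin c) (Fin c) R) = AlgHom.id R _ := by
    refine algHom_ext fun i => ?_
    simp [subst, Matrix.one_apply, apply_ite C]
  exact DFunLike.congr_fun this P

theorem map_subst {S : Type u} [CommRing S] (φ : R →+* S) (U : Matrix (Fin c) (Fin c) R)
    (P : MvPolynomial (Fin c) R) : map φ (subst U P) = subst (U.map φ) (map φ P) := by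
  induction P using MvPolynomial.induction_on with
  | C a => simp [subst]
  | add p q hp hq => simp [hp, hq]
  | mul_X p i hp =>
    simp only [map_mul, hp, map_X]
    congr 1
    simp [subst]

/-- Linear relations of a quasi-regular sequence modulo the square have coefficients in the ideal. -/
theorem mem_of_sum_mem_sq {f : Fin c → R} (hf : CAlgX.IsQuasiRegular f) (a : Fin c → R)
    (h : ∑ i, a i * f i ∈ Ideal.span (Set.range f) ^ 2) (i : Fin c) :
    a i ∈ Ideal.span (Set.range f) := by
  classical
  have hP := hf 1 (∑ j, C (a j) * X j)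
    (IsHomogeneous.sum _ _ _ fun j _ => isHomogeneous_C_mul_X _ _) (by simpa using h)
    (Finsupp.single i 1)
  rw [coeff_sum] at hP
  simpa [coeff_C_mul, coeff_X', Finset.sum_ite_eq', Finsupp.single_left_inj] using hP

theorem isQuasiRegular_of_span_eq {f f' : Fin c → R} (hf : CAlgX.IsQuasiRegular f)
    (h : Ideal.span (Set.range f') = Ideal.span (Set.range f)) : CAlgX.IsQuasiRegular f' := by
  classical
  set J := Ideal.span (Set.range f) with hJ
  have hU : ∀ i, ∃ u : Fin c → R, ∑ j, u j * f j = f' i := fun i =>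
    Ideal.mem_span_range_iff_exists_fun.mp (h ▸ Ideal.subset_span ⟨i, rfl⟩ : f' i ∈ J)
  have hV : ∀ i, ∃ v : Fin c → R, ∑ j, v j * f' j = f i := fun i =>
    Ideal.mem_span_range_iff_exists_fun.mp (h.symm ▸ Ideal.subset_span ⟨i, rfl⟩ :
      f i ∈ Ideal.span (Set.range f'))
  choose U hU using hU
  choose V hV using hV
  have hUf : (Matrix.of U) *ᵥ f = f' := funext fun i => by simpa [mulVec, dotProduct] using hU i
  have hVf : (Matrix.of V) *ᵥ f' = f := funext fun i => by simpa [mulVec, dotProduct] using hV i
  have hVU : ∀ i j, (Matrix.of V * Matrix.of U - 1) i j ∈ J := by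
    intro i
    refine mem_of_sum_mem_sq hf _ ?_
    have hz : ((Matrix.of V * Matrix.of U - 1) *ᵥ f) = 0 := by
      rw [sub_mulVec, ← mulVec_mulVec, hUf, hVf, one_mulVec, sub_self]
    have hzi := congrFun hz i
    simp only [mulVec, dotProduct, Pi.zero_apply] at hzi
    rw [hzi]
    exact Submodule.zero_mem _
  intro n P hP hPmem d
  rw [h]
  rw [h, ← hUf, ← eval_subst] at hPmem
  have hQ : map (Ideal.Quotient.mk J) (subst (Matrix.of U) P) = 0 := by
    ext e
    rw [coeff_map, coeff_zero, Ideal.Quotient.eq_zero_iff_mem]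
    exact hf n _ (isHomogeneous_subst _ hP) hPmem e
  set φ := Ideal.Quotient.mk J
  have h1 : (Matrix.of V).map φ * (Matrix.of U).map φ = 1 := by
    rw [← Matrix.map_mul]
    ext i j
    have := hVU i j
    rw [Matrix.sub_apply, ← Ideal.Quotient.eq_zero_iff_mem, map_sub, sub_eq_zero] at this
    simpa [Matrix.one_apply, apply_ite φ] using this
  have h2 : (Matrix.of U).map φ * (Matrix.of V).map φ = 1 := mul_eq_one_comm.mp h1
  rw [map_subst] at hQ
  have h3 := congrArg (subst ((Matrix.of V).map φ)) hQ
  rw [subst_comp, h2, subst_one, map_zero] at h3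
  rw [← Ideal.Quotient.eq_zero_iff_mem, ← coeff_map, h3, coeff_zero]

end Groth.Agent.QReg6
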